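import Groth.Agent.Lib.FreeSec5.Main
import Groth.Agent.Lib.FlatDescD9.PC
import Groth.Agent.Lib.CMReg18.BcTwist
import Groth.Agent.Lib.KFlat.LpullTensor
import Groth.Agent.Lib.ParaFDesc27.QcqsBC

/-!
# Base change of the restriction to a divisor
-/

set_option autoImplicit false
set_option linter.style.haveILetI false
set_option linter.unusedSectionVars false
set_option backward.isDefEq.respectTransparency false
set_option backward.isDefEq.respectTransparency.types false
set_option maxHeartbeats 1000000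

universe u

open CategoryTheory CategoryTheory.Limits AlgebraicGeometry TopologicalSpace Opposite MonoidalCategory TensorProduct

noncomputable section

namespace Groth.Agent.FreeSec5

open Groth.Agent ParaFDesc27 ModLimH13 QcohDesc12

section Res

variable {X : Scheme.{u}}

theorem bijective_mres_inf {M : X.Modules} {Z : Set X} (hZ : IsClosed Z)
    (h : ∀ x ∉ Z, Subsingleton (M.presheaf.stalk x)) (U : X.Opens) (hZU : Z ⊆ (U : Set X))
    {W W' : X.Opens} (hle : W' ≤ W) (he : W' = W ⊓ U) : Function.Bijective (M1.mres M hle) := by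
  subst he
  have hs := suppIn_of_stalk M Z h
  have h1 := isZero_of_suppIn_empty (Set.sdiff_eq_empty.2 hZU) (VanFib13.suppIn_kernel_θ U M hZ hs)
  have h2 := isZero_of_suppIn_empty (Set.sdiff_eq_empty.2 hZU) (VanFib13.suppIn_cokernel_θ U M hZ hs)
  haveI : Mono (VanFib13.θ U M) := Preadditive.mono_of_isZero_kernel _ h1
  haveI : Epi (VanFib13.θ U M) := Preadditive.epi_of_isZero_cokernel _ h2
  haveI := isIso_of_mono_of_epi (VanFib13.θ U M)
  have hb : Function.Bijective ((VanFib13.θ U M).app W) := ConcreteCategory.bijective_of_isIso _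
  have e := VanFib13.image_preimage U W
  have hr : Function.Bijective (M1.mres M e.ge) := ⟨fun s t hst => by
    have := congrArg (M1.mres M e.le) hst
    rwa [M1.mres_mres, M1.mres_mres, M1.mres_id, M1.mres_id] at this,
    fun t => ⟨M1.mres M e.le t, by rw [M1.mres_mres, M1.mres_id]⟩⟩
  suffices key : ∀ s, M1.mres M hle s = M1.mres M e.ge ((VanFib13.θ U M).app W s) from
    (congrArg Function.Bijective (funext key)).mpr (hr.comp hb)
  intro s
  rw [VanFib13.θ_app]
  exact (M1.mres_mres M _ _ s).symm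

theorem subsingleton_stalk_pullback {Y : Scheme.{u}} (g : X ⟶ Y) (M : Y.Modules) (x : X)
    [Subsingleton (M.presheaf.stalk (g x))] :
    Subsingleton (((Scheme.Modules.pullback g).obj M).presheaf.stalk x : Type u) := by
  haveI : Subsingleton (M2.BC g x M) := subsingleton_of_forall_eq 0 fun a => by
    induction a using TensorProduct.induction_on with
    | zero => rfl
    | tmul p m => rw [Subsingleton.elim m 0, TensorProduct.tmul_zero]
    | add a b ha hb => rw [ha, hb, add_zero]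
  exact (M2.pullStalkEquiv g x M).symm.injective.subsingleton

end Res

section BC

variable {X S X' S' : Scheme.{u}} {f : X ⟶ S} {g : S' ⟶ S} {f' : X' ⟶ S'} {g' : X' ⟶ X}

/-- Base change in degree zero for a module supported in an open which is affine over the base. -/
theorem isIso_bc0_of_supp [IsSeparated f] [QuasiCompact f] (hsq : IsPullback g' f' f g) (F : X.Modules)
    [hF : Coh.IsQCoh F] {Z : Set X} (hZ : IsClosed Z) (hs : ∀ x ∉ Z, Subsingleton (F.presheaf.stalk x))
    (U : X.Opens) (hZU : Z ⊆ (U : Set X)) [IsAffineHom (U.ι ≫ f)] :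
    IsIso (CohBC.bc0 f g f' g' hsq.w F) := by
  haveI : Coh.IsQCoh ((Scheme.Modules.pushforward f).obj F) := M1.isQCoh_push f hF
  refine ParaFDesc27.isIso_of_basis _
    (fun W : S'.Opens => IsAffineOpen W ∧ ∃ V : S.Opens, IsAffineOpen V ∧ W ≤ g ⁻¹ᵁ V)
    (fun O z hz => ?_) ?_
  · obtain ⟨V, hV, hzV, -⟩ := Opens.isBasis_iff_nbhd.1 S.isBasis_affineOpens (show g z ∈ (⊤ : S.Opens) from trivial)
    obtain ⟨W, hW, hzW, hWle⟩ := Opens.isBasis_iff_nbhd.1 S'.isBasis_affineOpens
      (show z ∈ (O : S'.Opens) ⊓ g ⁻¹ᵁ V from ⟨hz, hzV⟩)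
    exact ⟨W, ⟨hW, V, hV, hWle.trans inf_le_right⟩, hzW, hWle.trans inf_le_left⟩
  rintro W ⟨hW, V, hV, eW⟩
  let N := (Scheme.Modules.pushforward f).obj F
  obtain ⟨Φ, hΦ⟩ := exists_pullEquiv g N eW hV hW
  letI : Algebra Γ(S, V) Γ(S', W) := coeffAlg eW
  let A : X.Opens := f ⁻¹ᵁ V ⊓ U
  have hA : IsAffineOpen A := by
    have h := (hV.preimage (U.ι ≫ f)).image_of_isOpenImmersion U.ι
    rwa [Scheme.Hom.comp_preimage, VanFib13.image_preimage] at h
  let V₀ : {O : X.Opens // O ≤ f ⁻¹ᵁ V} := ⟨A, inf_le_left⟩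
  have hb := bsec_bijective_affine hsq.flip hV hW eW F V₀ hA
  have eZ : f' ⁻¹ᵁ W ≤ g' ⁻¹ᵁ (f ⁻¹ᵁ V) := fun x hx => by
    show f (g' x) ∈ V
    rw [← Scheme.Hom.comp_apply, hsq.w, Scheme.Hom.comp_apply]
    exact eW hx
  let G := (Scheme.Modules.pullback g').obj F
  have hG : ∀ x ∉ g' ⁻¹' Z, Subsingleton (G.presheaf.stalk x) := fun x hx =>
    haveI := hs (g' x) hx; subsingleton_stalk_pullback g' F x
  have hrG : Function.Bijective (M1.mres G (inf_le_left : f' ⁻¹ᵁ W ⊓ g' ⁻¹ᵁ A ≤ f' ⁻¹ᵁ W)) := by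
    refine bijective_mres_inf (hZ.preimage g'.continuous) hG (g' ⁻¹ᵁ U) (fun x hx => hZU hx) _ ?_
    apply le_antisymm
    · exact fun x hx => ⟨hx.1, hx.2.2⟩
    · exact fun x hx => ⟨hx.1, eZ hx.1, hx.2⟩
  have hrF := bijective_mres_inf hZ hs U hZU (inf_le_left : A ≤ f ⁻¹ᵁ V) rfl
  let ρ : Γ(N, V) →ₗ[Γ(S, V)] Sec V f F V₀ :=
    { toFun := fun s => M1.mres F (inf_le_left : A ≤ f ⁻¹ᵁ V) (show Γ(F, f ⁻¹ᵁ V) from s)
      map_add' := fun a b => map_add (M1.mres F (inf_le_left : A ≤ f ⁻¹ᵁ V)).hom (show Γ(F, f ⁻¹ᵁ V) from a) (show Γ(F, f ⁻¹ᵁ V) from b)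
      map_smul' := fun r s => by
        show M1.mres F (inf_le_left : A ≤ f ⁻¹ᵁ V) (f.app V r • (show Γ(F, f ⁻¹ᵁ V) from s)) =
          f.appLE V A inf_le_left r • M1.mres F (inf_le_left : A ≤ f ⁻¹ᵁ V) (show Γ(F, f ⁻¹ᵁ V) from s)
        rw [M1.mres_smul, ← CommRingCat.comp_apply, Scheme.Hom.app_eq_appLE, Scheme.Hom.appLE_map] }
  let e : Γ(S', W) ⊗[Γ(S, V)] Γ(N, V) ≃ₗ[Γ(S, V)] Γ(S', W) ⊗[Γ(S, V)] Sec V f F V₀ :=
    LinearEquiv.lTensor _ (LinearEquiv.ofBijective ρ hrF)
  refine (Function.Bijective.of_comp_iff _ Φ.bijective).1 ((Function.Bijective.of_comp_iff' hrG _).1 ?_)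
  suffices key : ∀ z, M1.mres G (inf_le_left : f' ⁻¹ᵁ W ⊓ g' ⁻¹ᵁ A ≤ f' ⁻¹ᵁ W)
      ((CohBC.bc0 f g f' g' hsq.w F).app W (Φ z)) = bsec hsq.flip eW F V₀ (e z) from
    (congrArg Function.Bijective (funext key)).mpr (hb.comp e.bijective)
  intro z
  induction z using TensorProduct.induction_on with
  | zero => simp only [map_zero]
  | add x y hx hy => simp only [map_add] at hx hy ⊢; rw [← hx, ← hy]
  | tmul c s =>
    show _ = bsec hsq.flip eW F V₀ (c ⊗ₜ ρ s)
    rw [bsec_tmul, hΦ, Scheme.Modules.Hom.app_smul, bc0_res' hsq.w F eW s eZ]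
    show M1.mres G _ (f'.app W c • (res' g' F eZ (show Γ(F, f ⁻¹ᵁ V) from s) : Γ(G, f' ⁻¹ᵁ W))) = _
    rw [M1.mres_smul, mres_res', ← CommRingCat.comp_apply, Scheme.Hom.app_eq_appLE, Scheme.Hom.appLE_map]
    exact congrArg _ (res'_mres g' F (inf_le_left : A ≤ f ⁻¹ᵁ V) inf_le_right _).symm

theorem epi_of_epi_pullback (h : S' ⟶ S) [Flat h] [Surjective h] {M N : S.Modules} (φ : M ⟶ N)
    [Epi ((Scheme.Modules.pullback h).map φ)] : Epi φ := by
  refine Preadditive.epi_of_isZero_cokernel _ (FlatDescD9.isZero_of_stalks fun x => ?_)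
  obtain ⟨y, rfl⟩ := h.surjective x
  haveI : (Scheme.Modules.pullback h).IsLeftAdjoint := ⟨_, ⟨Scheme.Modules.pullbackPushforwardAdjunction h⟩⟩
  exact FlatDescD9.isZero_stalk_of_pullback h
    (IsZero.of_iso (isZero_cokernel_of_epi _) (PreservesCokernel.iso (Scheme.Modules.pullback h) φ)) y

/-- Epimorphy of a direct image passes along base change. -/
theorem epi_push_pullback (hsq : IsPullback g' f' f g) {M N : X.Modules} (φ : M ⟶ N)
    [IsIso (CohBC.bc0 f g f' g' hsq.w N)] [Epi ((Scheme.Modules.pushforward f).map φ)] :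
    Epi ((Scheme.Modules.pushforward f').map ((Scheme.Modules.pullback g').map φ)) := by
  haveI : (Scheme.Modules.pullback g).IsLeftAdjoint := ⟨_, ⟨Scheme.Modules.pullbackPushforwardAdjunction g⟩⟩
  haveI : Epi (CohBC.bc0 f g f' g' hsq.w M ≫
      (Scheme.Modules.pushforward f').map ((Scheme.Modules.pullback g').map φ)) := by
    rw [← CMReg18.bc0_nat f g f' g' hsq.w φ]; infer_instance
  exact epi_of_epi (CohBC.bc0 f g f' g' hsq.w M) _

theorem epi_push_of_epi_pullback [QuasiSeparated f] [QuasiCompact f] [Flat g] [Surjective g]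
    (hsq : IsPullback g' f' f g) {M N : X.Modules} [Coh.IsQCoh M] [Coh.IsQCoh N] (φ : M ⟶ N)
    (h : Epi ((Scheme.Modules.pushforward f').map ((Scheme.Modules.pullback g').map φ))) :
    Epi ((Scheme.Modules.pushforward f).map φ) := by
  haveI := ParaFDesc27.isIso_bc0_of_flat hsq M
  haveI := ParaFDesc27.isIso_bc0_of_flat hsq N
  haveI : Epi ((Scheme.Modules.pullback g).map ((Scheme.Modules.pushforward f).map φ)) := by
    haveI := h
    have e : (Scheme.Modules.pullback g).map ((Scheme.Modules.pushforward f).map φ) =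
        (CohBC.bc0 f g f' g' hsq.w M ≫ (Scheme.Modules.pushforward f').map ((Scheme.Modules.pullback g').map φ)) ≫
          inv (CohBC.bc0 f g f' g' hsq.w N) := (IsIso.eq_comp_inv _).2 (CMReg18.bc0_nat f g f' g' hsq.w φ)
    rw [e]; infer_instance
  exact epi_of_epi_pullback g _

end BC

section Transfer

variable {P P' C : Scheme.{u}} (g : P ⟶ C) (v : P' ⟶ P) (g' : P' ⟶ C) (hv : v ≫ g = g') (F : P.Modules)

/-- `v^*(F ⊗ g^* M) ≅ v^* F ⊗ g'^* M`. -/
def transIso (M : C.Modules) :
    (Scheme.Modules.pullback v).obj (CohB1.tensorMod F ((Scheme.Modules.pullback g).obj M)) ≅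
      CohB1.tensorMod ((Scheme.Modules.pullback v).obj F) ((Scheme.Modules.pullback g').obj M) :=
  M2.pullTensorIso v F ((Scheme.Modules.pullback g).obj M) ≪≫
    (M2.shf P').mapIso ((Iso.refl _) ⊗ᵢ
      (M2.pmF P').mapIso ((Scheme.Modules.pullbackComp v g).app M ≪≫ (Scheme.Modules.pullbackCongr hv).app M))

theorem transIso_natural {M N : C.Modules} (φ : M ⟶ N) :
    (transIso g v g' hv F M).hom ≫ Φ g' ((Scheme.Modules.pullback v).obj F) φ =
      (Scheme.Modules.pullback v).map (Φ g F φ) ≫ (transIso g v g' hv F N).hom := by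
  let p := (Scheme.Modules.pullback v)
  let c : ∀ L : C.Modules, p.obj ((Scheme.Modules.pullback g).obj L) ≅ (Scheme.Modules.pullback g').obj L :=
    fun L => (Scheme.Modules.pullbackComp v g).app L ≪≫ (Scheme.Modules.pullbackCongr hv).app L
  have hc : p.map ((Scheme.Modules.pullback g).map φ) ≫ (c N).hom =
      (c M).hom ≫ (Scheme.Modules.pullback g').map φ :=
    ((Scheme.Modules.pullbackComp v g ≪≫ Scheme.Modules.pullbackCongr hv).hom.naturality φ)
  have h1 := KFlat.Sch.pullCmp_natural v (𝟙 F) ((Scheme.Modules.pullback g).map φ)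
  change (M2.pullCmp v F ((Scheme.Modules.pullback g).obj M) ≫ M2.tensorMap (𝟙 _) (c M).hom) ≫ _ =
    _ ≫ (M2.pullCmp v F ((Scheme.Modules.pullback g).obj N) ≫ M2.tensorMap (𝟙 _) (c N).hom)
  rw [Φ_eq, Φ_eq, Category.assoc, ← M2.tensorMap_comp, Category.id_comp, ← hc, ← Category.assoc, h1, Category.assoc,
    ← M2.tensorMap_comp, CategoryTheory.Functor.map_id, Category.id_comp]

include hv in
theorem epi_iff {T' : Scheme.{u}} (f' : P' ⟶ T') {M N : C.Modules} (φ : M ⟶ N) :
    Epi ((Scheme.Modules.pushforward f').map ((Scheme.Modules.pullback v).map (Φ g F φ))) ↔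
      Epi ((Scheme.Modules.pushforward f').map (Φ g' ((Scheme.Modules.pullback v).obj F) φ)) :=
  (MorphismProperty.epimorphisms T'.Modules).arrow_mk_iso_iff
    (Arrow.isoMk ((Scheme.Modules.pushforward f').mapIso (transIso g v g' hv F M))
      ((Scheme.Modules.pushforward f').mapIso (transIso g v g' hv F N))
      (((Scheme.Modules.pushforward f').map_comp _ _).symm.trans
        ((congrArg (Scheme.Modules.pushforward f').map (transIso_natural g v g' hv F φ)).trans
          ((Scheme.Modules.pushforward f').map_comp _ _))))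

end Transfer

theorem main (k : Type u) [Field k] {C T T' : Scheme.{u}} (q : C ⟶ Spec (CommRingCat.of k))
    (hC : Curve.IsSmoothProperCurve k C q) (t : T ⟶ Spec (CommRingCat.of k)) (F : (pullback t q).Modules)
    (hF : FlatMod.IsFinLocFree F) (D : C.IdealSheafData) (hD : BlowUp.IsEffCartierIdeal D) (w : T' ⟶ T)
    (v : pullback (w ≫ t) q ⟶ pullback t q) (h₁ : v ≫ pullback.fst t q = pullback.fst (w ≫ t) q ≫ w)
    (h₂ : v ≫ pullback.snd t q = pullback.snd (w ≫ t) q) :
    (Epi ((Coh.push (pullback.fst t q)).map (Φ (pullback.snd t q) F (ClSub.toSubscheme D))) →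
      Epi ((Coh.push (pullback.fst (w ≫ t) q)).map
        (Φ (pullback.snd (w ≫ t) q) ((Scheme.Modules.pullback v).obj F) (ClSub.toSubscheme D)))) ∧
    (Flat w → Surjective w →
      Epi ((Coh.push (pullback.fst (w ≫ t) q)).map
        (Φ (pullback.snd (w ≫ t) q) ((Scheme.Modules.pullback v).obj F) (ClSub.toSubscheme D))) →
      Epi ((Coh.push (pullback.fst t q)).map (Φ (pullback.snd t q) F (ClSub.toSubscheme D)))) := by
  haveI := hC.1
  have hsq : IsPullback v (pullback.fst (w ≫ t) q) (pullback.fst t q) w :=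
    IsPullback.of_right (h₁₂ := pullback.snd t q) (v₁₃ := q) (h₂₂ := t)
      (by rw [h₂]; exact (IsPullback.of_hasPullback (w ≫ t) q).flip) h₁ (IsPullback.of_hasPullback t q).flip
  haveI := isQCoh_Φ (pullback.snd t q) F hF (isQCoh_quotMod D)
  haveI := isQCoh_Φ (pullback.snd t q) F hF (M1.isQCoh_structureModule C)
  refine ⟨fun h => ?_, fun _ _ h => ?_⟩
  · obtain ⟨G, hG, hDG⟩ := exists_affine k q hC D hD
    haveI := isAffineHom_ι_fst k q t G hG
    haveI := isIso_bc0_of_supp hsq (CohB1.tensorMod F ((Scheme.Modules.pullback (pullback.snd t q)).obj (ClSub.quotMod D)))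
      (D.support.isClosed.preimage (pullback.snd t q).continuous)
      (fun x hx => haveI := subsingleton_stalk_quotMod D (pullback.snd t q x) hx; subsingleton_stalk _ F _ x)
      ((pullback.snd t q) ⁻¹ᵁ G) (fun x hx => hDG hx)
    haveI := h
    exact (epi_iff _ v _ h₂ F _ _).1 (epi_push_pullback hsq _)
  · exact epi_push_of_epi_pullback hsq _ ((epi_iff _ v _ h₂ F _ _).2 h)

end Groth.Agent.FreeSec5
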