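import Groth.Agent.Lib.Snapper.Main
import Groth.Agent.Lib.CohFound.RpushHc
import Groth.Agent.Lib.CMReg18.RegPn
import Groth.Agent.Lib.Cyc26.SplitBase
import Groth.Agent.Lib.TensorNat17.Basic
import Groth.Agent.Lib.CurveCoh17.TensorExact
import Groth.Agent.Lib.VanFib13.Tors
import Groth.Agent.Lib.CurveAmple18.Main
import Groth.Agent.Lib.CurveAmple18.Cartier
import Groth.Agent.Lib.TensorMod.IdealMod
import Groth.Agent.Lib.TensorMod.PullStalk
import Groth.Agent.Lib.TensorMod.QCohTensor
import Groth.Agent.Lib.ExtFil4.Lambda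
import Groth.Agent.Lib.NumPoly18.Apps
import Groth.Agent.Lib.RDerLES.Horseshoe
import Groth.Prelude.Def_Curve

/-!
# Restriction of a locally free module to a divisor pulled back from a curve
-/

set_option autoImplicit false
set_option linter.style.haveILetI false
set_option linter.unusedSectionVars false
set_option backward.isDefEq.respectTransparency false
set_option backward.isDefEq.respectTransparency.types false

universe u

open CategoryTheory CategoryTheory.Limits AlgebraicGeometry TopologicalSpace Opposite MonoidalCategory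

namespace Groth.Agent.FreeSec5

open Groth.Agent

section Supp

variable {X Y : Scheme.{u}}

/-- The module direct image vanishes if the abelian one does. -/
theorem isZero_rpush_of_rpushAb (f : X ⟶ Y) [HasInjectiveResolutions X.Modules]
    (M : X.Modules) (p : ℕ) (h : IsZero ((Coh.RpushAb f p).obj (Coh.toAb M))) :
    IsZero ((Coh.Rpush f p).obj M) := by
  obtain ⟨a⟩ := CohFound.nonempty_abF_rpush_iso_shPre f M p
  obtain ⟨b⟩ := CohFound.nonempty_rpush_iso_shPre (f.base : CohFound.sp X ⟶ CohFound.sp Y)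
    ((CohFound.abF X).obj M) p
  let c : (CohFound.abF Y).obj ((Coh.Rpush f p).obj M) ≅ (Coh.RpushAb f p).obj (Coh.toAb M) := a ≪≫ b.symm
  refine Snapper.isZero_of_support_empty (Set.eq_empty_of_forall_notMem fun y hy => hy ?_)
  let G := sheafToPresheaf (Opens.grothendieckTopology (CohFound.sp Y)) AddCommGrpCat.{u} ⋙
    TopCat.Presheaf.stalkFunctor AddCommGrpCat.{u} (y : CohFound.sp Y)
  have h' : IsZero (G.obj ((CohFound.abF Y).obj ((Coh.Rpush f p).obj M))) :=
    IsZero.of_iso (G.map_isZero h) (G.mapIso c)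
  exact AddCommGrpCat.subsingleton_of_isZero h'

theorem suppIn_of_stalk (M : X.Modules) (Z : Set X)
    (h : ∀ x ∉ Z, Subsingleton (M.presheaf.stalk x)) : VanFib13.SuppIn M Z := fun W hW s =>
  TopCat.Presheaf.section_ext ((CohFound.abF X).obj M) W s 0 fun x hx =>
    @Subsingleton.elim _ (h x (Set.disjoint_left.1 hW hx)) _ _

theorem isZero_of_suppIn_empty {M : X.Modules} {Z : Set X} (hZ : Z = ∅) (h : VanFib13.SuppIn M Z) : IsZero M :=
  Snapper.isZero_of_support_empty (Set.eq_empty_of_forall_notMem fun x hx => hx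
    (subsingleton_of_forall_eq 0 fun a => by
      obtain ⟨W, hxW, s, rfl⟩ := M.presheaf.exists_germ_eq a
      rw [h W (by rw [hZ]; exact Set.disjoint_empty _) s, map_zero]))

/-- A quasi-coherent module supported inside an open which is affine over the base has no first direct image. -/
theorem isZero_rpush_one_of_suppIn (f : X ⟶ Y) [QuasiCompact f] [IsSeparated f] [HasInjectiveResolutions X.Modules]
    {M : X.Modules} (hM : Coh.IsQCoh M) {Z : Set X} (hZ : IsClosed Z) (h : VanFib13.SuppIn M Z)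
    (U : X.Opens) (hZU : Z ⊆ (U : Set X)) [IsAffineHom (U.ι ≫ f)] :
    IsZero ((Coh.Rpush f 1).obj M) := by
  haveI : IsAffineHom U.ι := IsAffineHom.of_comp U.ι f
  have h1 := isZero_of_suppIn_empty (Set.sdiff_eq_empty.2 hZU) (VanFib13.suppIn_kernel_θ U M hZ h)
  have h2 := isZero_of_suppIn_empty (Set.sdiff_eq_empty.2 hZU) (VanFib13.suppIn_cokernel_θ U M hZ h)
  haveI : Mono (VanFib13.θ U M) := Preadditive.mono_of_isZero_kernel _ h1
  haveI : Epi (VanFib13.θ U M) := Preadditive.epi_of_isZero_cokernel _ h2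
  haveI := isIso_of_mono_of_epi (VanFib13.θ U M)
  haveI : (M.restrict U.ι).IsQuasicoherent := M1.isQCoh_restrict hM U.ι
  refine IsZero.of_iso ?_ ((Coh.Rpush f 1).mapIso (asIso (VanFib13.θ U M)))
  have hP : Coh.IsQCoh (VanFib13.PJ U M) := M1.isQCoh_push U.ι (M1.isQCoh_restrict hM U.ι)
  refine isZero_rpush_of_rpushAb f _ 1 ((CMReg18.isZero_rpushAb_iff_affine f hP 1).2
    fun W hW => (CohFound.subsingleton_HH_iff _ _).2 ?_)
  obtain ⟨e'⟩ := CohFound.nonempty_hc_abF_restrict (f ⁻¹ᵁ W).ι (VanFib13.PJ U M) 1 ⊤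
  rw [Scheme.Hom.image_top_eq_opensRange, Scheme.Opens.opensRange_ι] at e'
  obtain ⟨e⟩ := CohFound.nonempty_hc_push_isAffineHom U.ι (M.restrict U.ι) 1 (f ⁻¹ᵁ W)
  haveI := CohFound.subsingleton_hc_isAffineOpen (M.restrict U.ι) (U := U.ι ⁻¹ᵁ (f ⁻¹ᵁ W))
    (hW.preimage (U.ι ≫ f)) 0
  exact (e'.trans e).injective.subsingleton

end Supp

section Tensor

variable {X Y : Scheme.{u}} (g : X ⟶ Y) (F : X.Modules)

/-- `M ↦ F ⊗ g^* M` on morphisms. -/
noncomputable def Φ {M N : Y.Modules} (φ : M ⟶ N) :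
    CohB1.tensorMod F ((Scheme.Modules.pullback g).obj M) ⟶ CohB1.tensorMod F ((Scheme.Modules.pullback g).obj N) :=
  (CohB1.sheafifyMod X).map (CohB1.toPMod F ◁ ((Scheme.Modules.pullback g).map φ).val)

theorem Φ_eq {M N : Y.Modules} (φ : M ⟶ N) :
    Φ g F φ = M2.tensorMap (𝟙 F) ((Scheme.Modules.pullback g).map φ) := by
  unfold Φ M2.tensorMap
  exact congrArg (M2.shf X).map ((congrArg (· ⊗ₘ _) ((M2.pmF X).map_id F)).trans (id_tensorHom _ _)).symm

theorem Φ_comp {L M N : Y.Modules} (φ : L ⟶ M) (ψ : M ⟶ N) : Φ g F (φ ≫ ψ) = Φ g F φ ≫ Φ g F ψ := by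
  simp only [Φ_eq, Functor.map_comp, ← M2.tensorMap_comp, Category.comp_id]

theorem shortExact_Φ [Flat g] (hF : FlatMod.IsFinLocFree F) {A B C : Y.Modules} (a : A ⟶ B) (b : B ⟶ C)
    (hab : a ≫ b = 0) (hS : (ShortComplex.mk a b hab).ShortExact) :
    ∃ h : Φ g F a ≫ Φ g F b = 0, (ShortComplex.mk _ _ h).ShortExact := by
  obtain ⟨h1, h2⟩ := Cyc26Split.shortExact_pullback g a b hab hS
  have h3 := CurveCoh17.shortExact_tensorR h2 F (fun x => ExtFil4.flat_stalk hF x)
  have key : ∀ {M N : Y.Modules} (φ : M ⟶ N),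
      (M2.tensorR F).map ((Scheme.Modules.pullback g).map φ) ≫ (M2.tensorComm _ F).hom =
        (M2.tensorComm _ F).hom ≫ Φ g F φ := fun φ => by
    rw [Φ_eq]; exact M2.tensorComm_natural ((Scheme.Modules.pullback g).map φ) (𝟙 F)
  have h4 : Φ g F a ≫ Φ g F b = 0 := by
    rw [← Φ_comp, hab]
    refine (Iso.cancel_iso_hom_left (M2.tensorComm ((Scheme.Modules.pullback g).obj A) F) _ _).1 ?_
    rw [← key, comp_zero, (Scheme.Modules.pullback g).map_zero, (M2.tensorR F).map_zero, zero_comp]
  exact ⟨h4, ShortComplex.shortExact_of_iso (ShortComplex.isoMk (M2.tensorComm _ F) (M2.tensorComm _ F)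
    (M2.tensorComm _ F) (key a).symm (key b).symm) h3⟩

theorem subsingleton_stalk (M : Y.Modules) (x : X) [Subsingleton (M.presheaf.stalk (g x))] :
    Subsingleton ((CohB1.tensorMod F ((Scheme.Modules.pullback g).obj M)).presheaf.stalk x) := by
  haveI : Subsingleton (M2.BC g x M) := subsingleton_of_forall_eq 0 fun a => by
    induction a using TensorProduct.induction_on with
    | zero => rfl
    | tmul p m => rw [Subsingleton.elim m 0, TensorProduct.tmul_zero]
    | add a b ha hb => rw [ha, hb, add_zero]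
  haveI : Subsingleton (((Scheme.Modules.pullback g).obj M).presheaf.stalk x : Type u) :=
    (M2.pullStalkEquiv g x M).symm.injective.subsingleton
  haveI : Subsingleton (TensorProduct (X.presheaf.stalk x) (F.presheaf.stalk x : Type u)
      (((Scheme.Modules.pullback g).obj M).presheaf.stalk x : Type u)) := subsingleton_of_forall_eq 0 fun a => by
    induction a using TensorProduct.induction_on with
    | zero => rfl
    | tmul p m => rw [Subsingleton.elim m 0, TensorProduct.tmul_zero]
    | add a b ha hb => rw [ha, hb, add_zero]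
  exact (M2.stalkEquiv F ((Scheme.Modules.pullback g).obj M) x).injective.subsingleton

theorem suppIn_Φ (M : Y.Modules) (S : Set Y) (h : ∀ y ∉ S, Subsingleton (M.presheaf.stalk y)) :
    VanFib13.SuppIn (CohB1.tensorMod F ((Scheme.Modules.pullback g).obj M)) (g ⁻¹' S) :=
  suppIn_of_stalk _ _ fun x hx => haveI := h (g x) hx; subsingleton_stalk g F M x

theorem isQCoh_Φ (hF : FlatMod.IsFinLocFree F) {M : Y.Modules} (hM : Coh.IsQCoh M) :
    Coh.IsQCoh (CohB1.tensorMod F ((Scheme.Modules.pullback g).obj M)) :=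
  M2.isQCoh_tensor (M2.isQCoh_of_isFinLocFree hF) (M1.isQCoh_pullback g hM)

end Tensor

section Derived

variable {X Y : Scheme.{u}} (f : X ⟶ Y) [HasInjectiveResolutions X.Modules]
  {S : ShortComplex X.Modules} (hS : S.ShortExact)

include hS

theorem epi_push_of_isZero (h : IsZero ((Coh.Rpush f 1).obj S.X₁)) : Epi ((Coh.push f).map S.g) := by
  obtain ⟨T⟩ := RDerLES.exists_sesRes hS
  obtain ⟨w, he⟩ := (RDerLES.exact_sequences (Coh.push f) T 0 1 rfl).2.1
  haveI : Epi (((Coh.push f).rightDerived 0).map S.g) := he.epi_f (h.eq_of_tgt _ _)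
  have : Epi (((Coh.push f).rightDerived 0).map S.g ≫ (Coh.push f).rightDerivedZeroIsoSelf.hom.app S.X₃) :=
    inferInstance
  rw [(Coh.push f).rightDerivedZeroIsoSelf.hom.naturality S.g] at this
  exact epi_of_epi ((Coh.push f).rightDerivedZeroIsoSelf.hom.app S.X₂) _

theorem isZero_iff_of_isZero (h : IsZero ((Coh.Rpush f 1).obj S.X₃)) :
    IsZero ((Coh.Rpush f 1).obj S.X₁) ↔
      IsZero ((Coh.Rpush f 1).obj S.X₂) ∧ Epi ((Coh.push f).map S.g) := by
  obtain ⟨T⟩ := RDerLES.exists_sesRes hS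
  obtain ⟨w, he⟩ := (RDerLES.exact_sequences (Coh.push f) T 0 1 rfl).2.1
  obtain ⟨w', he'⟩ := (RDerLES.exact_sequences (Coh.push f) T 0 1 rfl).2.2
  have he'' := (RDerLES.exact_sequences (Coh.push f) T 1 2 rfl).1
  refine ⟨fun h1 => ⟨he''.isZero_X₂ (h1.eq_of_src _ _) (h.eq_of_tgt _ _), epi_push_of_isZero f hS h1⟩,
    fun ⟨h2, hepi⟩ => ?_⟩
  haveI : Epi ((Coh.push f).rightDerivedZeroIsoSelf.hom.app S.X₂ ≫ (Coh.push f).map S.g) := inferInstance
  rw [← (Coh.push f).rightDerivedZeroIsoSelf.hom.naturality S.g] at this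
  haveI : Epi (((Coh.push f).rightDerived 0).map S.g) := by
    have h3 := this
    rw [← Category.comp_id (((Coh.push f).rightDerived 0).map S.g),
      ← Iso.hom_inv_id_app (Coh.push f).rightDerivedZeroIsoSelf S.X₃, ← Category.assoc]
    infer_instance
  refine he'.isZero_X₂ ?_ (h2.eq_of_tgt _ _)
  exact (cancel_epi (((Coh.push f).rightDerived 0).map S.g)).1 (w.trans comp_zero.symm)

end Derived

section Curve

variable (k : Type u) [Field k]

theorem exists_affine {C : Scheme.{u}} (q : C ⟶ Spec (CommRingCat.of k))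
    (hC : Curve.IsSmoothProperCurve k C q) (D : C.IdealSheafData) (hD : BlowUp.IsEffCartierIdeal D) :
    ∃ G : C.Opens, IsAffineOpen G ∧ (D.support : Set C) ⊆ (G : Set C) := by
  obtain ⟨hp, -, hI, hd⟩ := hC
  haveI := CohFound.isNoetherian_of_isProper q
  haveI := LocallyOfFiniteType.jacobsonSpace q
  have hne : ((D.support : Set C)ᶜ).Nonempty := by
    rw [Set.nonempty_compl]
    intro he
    have h0 := CurveAmple18.dim_support_le hd.le hD
    have h1 : topologicalKrullDim C ≤ topologicalKrullDim (D.support : Set C) :=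
      Topology.IsInducing.topologicalKrullDim_le (f := fun x => (⟨x, he ▸ Set.mem_univ x⟩ : (D.support : Set C)))
        (Topology.IsInducing.id.codRestrict _)
    rw [hd] at h1
    exact absurd (h1.trans h0) (by simp)
  obtain ⟨p, hpS, hpc⟩ := nonempty_inter_closedPoints hne D.support.isClosed.isOpen_compl.isLocallyClosed
  refine ⟨⟨{p}ᶜ, hpc.isOpen_compl⟩, CurveAmple18.isAffineOpen_of_ne_top q hd.le _ fun h => ?_,
    fun x hx (he : x = p) => hpS (he ▸ hx)⟩
  exact (h.ge (Opens.mem_top p) : p ∈ ({p} : Set C)ᶜ) rfl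

theorem isAffineHom_ι_fst {C T : Scheme.{u}} (q : C ⟶ Spec (CommRingCat.of k)) (t : T ⟶ Spec (CommRingCat.of k))
    (G : C.Opens) (hG : IsAffineOpen G) :
    IsAffineHom (((pullback.snd t q) ⁻¹ᵁ G).ι ≫ pullback.fst t q) := by
  haveI : IsAffine G.toScheme := hG
  haveI : IsAffineHom (G.ι ≫ q) := inferInstance
  exact MorphismProperty.of_isPullback
    (((isPullback_morphismRestrict (pullback.snd t q) G).flip).paste_horiz (IsPullback.of_hasPullback t q)).flip
    inferInstance

theorem isZero_rpush_curve {C T : Scheme.{u}} (q : C ⟶ Spec (CommRingCat.of k))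
    (hC : Curve.IsSmoothProperCurve k C q) (t : T ⟶ Spec (CommRingCat.of k))
    [HasInjectiveResolutions (pullback t q).Modules] (D : C.IdealSheafData) (hD : BlowUp.IsEffCartierIdeal D)
    {F : (pullback t q).Modules} (hF : FlatMod.IsFinLocFree F) {M : C.Modules} (hM : Coh.IsQCoh M)
    (h : ∀ y ∉ (D.support : Set C), Subsingleton (M.presheaf.stalk y)) :
    IsZero ((Coh.Rpush (pullback.fst t q) 1).obj
      (CohB1.tensorMod F ((Scheme.Modules.pullback (pullback.snd t q)).obj M))) := by
  obtain ⟨G, hG, hDG⟩ := exists_affine k q hC D hD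
  haveI := hC.1
  haveI := isAffineHom_ι_fst k q t G hG
  exact isZero_rpush_one_of_suppIn _ (isQCoh_Φ _ F hF hM)
    (D.support.isClosed.preimage (pullback.snd t q).continuous) (suppIn_Φ _ F M _ h)
    ((pullback.snd t q) ⁻¹ᵁ G) (fun x hx => hDG hx)

end Curve

end Groth.Agent.FreeSec5
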