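import Groth.Agent.Lib.FreeSec5.Basic
import Groth.Agent.Lib.Twist.Pullback
import Groth.Agent.Lib.KFlat.Scheme

/-!
# Free sections: the two comparison statements
-/

set_option autoImplicit false
set_option linter.style.haveILetI false
set_option linter.unusedSectionVars false
set_option backward.isDefEq.respectTransparency false
set_option backward.isDefEq.respectTransparency.types false

universe u

open CategoryTheory CategoryTheory.Limits AlgebraicGeometry TopologicalSpace Opposite MonoidalCategory

namespace Groth.Agent.FreeSec5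

open Groth.Agent

variable {C : Scheme.{u}}

theorem subsingleton_stalk_quotMod (D : C.IdealSheafData) (y : C) (hy : y ∉ (D.support : Set C)) :
    Subsingleton ((ClSub.quotMod D).presheaf.stalk y) :=
  Classical.not_not.1 fun hc => hy (NumPoly18.support_quotMod_subset D hc)

theorem isQCoh_quotMod (D : C.IdealSheafData) : Coh.IsQCoh (ClSub.quotMod D) :=
  M1.isQCoh_push _ (M1.isQCoh_structureModule _)

theorem ι_toSubscheme_of_le {D D' : C.IdealSheafData} (h : D ≤ D') :
    ClSub.idealModι D ≫ ClSub.toSubscheme D' = 0 := by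
  refine Scheme.Modules.hom_ext _ _ fun U => ?_
  ext a
  show D'.subschemeι.app U (M2.idealIncl D a) = 0
  rw [Scheme.Hom.congr_app (Scheme.IdealSheafData.inclusion_subschemeι h).symm U]
  simp only [Scheme.Hom.comp_app, CommRingCat.comp_apply, M2.subschemeι_app_idealIncl, map_zero]

section

variable (k : Type u) [Field k] {T : Scheme.{u}} (q : C ⟶ Spec (CommRingCat.of k))
  (hC : Curve.IsSmoothProperCurve k C q) (t : T ⟶ Spec (CommRingCat.of k))
  [HasInjectiveResolutions (pullback t q).Modules] {F : (pullback t q).Modules} (hF : FlatMod.IsFinLocFree F)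

include hC hF

theorem isZero_iff (D : C.IdealSheafData) (hD : BlowUp.IsEffCartierIdeal D) :
    IsZero ((Coh.Rpush (pullback.fst t q) 1).obj
      (CohB1.tensorMod F ((Scheme.Modules.pullback (pullback.snd t q)).obj (ClSub.idealMod D)))) ↔
      IsZero ((Coh.Rpush (pullback.fst t q) 1).obj
        (CohB1.tensorMod F ((Scheme.Modules.pullback (pullback.snd t q)).obj (Coh.structureModule C)))) ∧
      Epi ((Coh.push (pullback.fst t q)).map (Φ (pullback.snd t q) F (ClSub.toSubscheme D))) := by
  have hab : ClSub.idealModι D ≫ ClSub.toSubscheme D = 0 := kernel.condition _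
  obtain ⟨h, hS⟩ := shortExact_Φ (pullback.snd t q) F hF (ClSub.idealModι D) (ClSub.toSubscheme D) hab
    (M2.shortExact_idealMod D)
  have h3 := isZero_rpush_curve k q hC t D hD hF (isQCoh_quotMod D) (subsingleton_stalk_quotMod D)
  exact isZero_iff_of_isZero (S := ShortComplex.mk _ _ h) (pullback.fst t q) hS h3

theorem epi_of_le {D D' : C.IdealSheafData} (hD : BlowUp.IsEffCartierIdeal D) (hle : D ≤ D')
    (hepi : Epi ((Coh.push (pullback.fst t q)).map (Φ (pullback.snd t q) F (ClSub.toSubscheme D)))) :
    Epi ((Coh.push (pullback.fst t q)).map (Φ (pullback.snd t q) F (ClSub.toSubscheme D'))) := by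
  have hI := M2.shortExact_idealMod D
  obtain ⟨r₀, hr⟩ := CokernelCofork.IsColimit.desc' hI.gIsCokernel (ClSub.toSubscheme D') (ι_toSubscheme_of_le hle)
  let r : ClSub.quotMod D ⟶ ClSub.quotMod D' := r₀
  change ClSub.toSubscheme D ≫ r = ClSub.toSubscheme D' at hr
  haveI : Epi r := by
    haveI : Epi (ClSub.toSubscheme D ≫ r) := hr ▸ M2.epi_toSubscheme D'
    exact epi_of_epi (ClSub.toSubscheme D) r
  have hK : (ShortComplex.mk (kernel.ι r) r (kernel.condition r)).ShortExact :=
    { exact := ShortComplex.exact_kernel r }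
  obtain ⟨h, hS⟩ := shortExact_Φ (pullback.snd t q) F hF _ _ _ hK
  have hsupp : ∀ y ∉ (D.support : Set C), Subsingleton ((kernel r).presheaf.stalk y) := fun y hy =>
    haveI : Subsingleton ((M1.stalkAb y).obj (ClSub.quotMod D)) := subsingleton_stalk_quotMod D y hy
    Function.Injective.subsingleton ((KFlat.Sch.mono_iff_stalk (kernel.ι r)).1 inferInstance y)
  have h2 := epi_push_of_isZero (pullback.fst t q) hS
    (isZero_rpush_curve k q hC t D hD hF (M1.isQCoh_kernel (isQCoh_quotMod D) (isQCoh_quotMod D') r) hsupp)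
  rw [← hr, Φ_comp, Functor.map_comp]
  haveI := hepi
  haveI : Epi ((Coh.push (pullback.fst t q)).map (Φ (pullback.snd t q) F r)) := h2
  exact epi_comp _ _

end

/-- `F ⊗ g^* O ≅ F`. -/
theorem nonempty_tensor_pullback_unit {X : Scheme.{u}} (g : X ⟶ C) (F : X.Modules) :
    Nonempty (CohB1.tensorMod F ((Scheme.Modules.pullback g).obj (Coh.structureModule C)) ≅ F) :=
  ⟨PicGrp.tensorModIso (Iso.refl F) (Twist.pullbackUnitIso g) ≪≫ M2.tensorRUnit F⟩

end Groth.Agent.FreeSec5
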